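import Cfsg.Agent.H847.Bs.Defs2
import Cfsg.Agent.Lib.Zsigmondy
import Cfsg.Agent.BpCl.Rows
import Cfsg.Agent.H358.Bs.Amb
import Cfsg.Agent.Prune
set_option linter.all false
prune_inst 0x7fffefffbfbff9dfffff7ffff6baeffdfffebfffe6dff9fbffe0efffebdffb92efe5ffa7effbfbfe1e57eb3c1cfc7bd3f9ffef7fe36bd87ffffd1ff45ffbff9fffffbd1971ff9dbecfbd2ffff3f0778e7f3fffffffffffffffffffffffffffbeffbfffffffff
open scoped Cfsg.Agent.FastGrp

-- part: H845/Bs/Geo
section
/-!
# S5733, BS34: geometry

* `exists_prime_elt` : an element of prime order `r` commuting with an irreducible element;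
* `block_contra` : an element of prime order `r` with `[V, y]` large and irreducible is in no imprimitive group
  with blocks of dimension at least 2.
-/

set_option autoImplicit false

namespace Cfsg.Agent.H845.Bs

open Cfsg.Agent.H847.Bs Module

section Inv

variable {F V : Type*} [Field F] [AddCommGroup V] [Module F V]

theorem Inv.map_eq [FiniteDimensional F V] {x : V ≃ₗ[F] V} {Y : Submodule F V} (h : _root_.Cfsg.Agent.H847.Bs.Inv x Y) :
    Y.map (x : V →ₗ[F] V) = Y := by
  have h1 : Y.map (x : V →ₗ[F] V) ≤ Y := by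
    rintro _ ⟨v, hv, rfl⟩
    exact h v hv
  apply Submodule.eq_of_le_of_finrank_eq h1
  exact LinearEquiv.finrank_map_eq x Y

theorem Inv.symm_mem [FiniteDimensional F V] {x : V ≃ₗ[F] V} {Y : Submodule F V} (h : _root_.Cfsg.Agent.H847.Bs.Inv x Y) {v : V} (hv : v ∈ Y) :
    x.symm v ∈ Y := by
  rw [← Inv.map_eq h] at hv
  obtain ⟨w, hw, hwv⟩ := hv
  have h1 : x w = v := hwv
  rw [← h1, LinearEquiv.symm_apply_apply]
  exact hw

/-- the kernel of an endomorphism commuting with `x` is invariant -/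
theorem inv_ker {x : V ≃ₗ[F] V} {a : V →ₗ[F] V} (h : ∀ v, a (x v) = x (a v)) : _root_.Cfsg.Agent.H847.Bs.Inv x (LinearMap.ker a) := by
  intro v hv
  rw [LinearMap.mem_ker] at hv ⊢
  rw [h, hv, map_zero]

end Inv

section Cent

variable {F D : Type*} [Field F] [Finite F] [AddCommGroup D] [Module F D] [FiniteDimensional F D]

/-- the centralizer of `x` in the endomorphism ring -/
def cen (x : D ≃ₗ[F] D) : Submodule F (D →ₗ[F] D) where
  carrier := {a | ∀ v, a (x v) = x (a v)}
  add_mem' := by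
    intro a b ha hb v
    rw [LinearMap.add_apply, LinearMap.add_apply, ha, hb, map_add]
  zero_mem' := by
    intro v
    rw [LinearMap.zero_apply, LinearMap.zero_apply, map_zero]
  smul_mem' := by
    intro c a ha v
    rw [LinearMap.smul_apply, LinearMap.smul_apply, ha, map_smul]

omit [Finite F] [FiniteDimensional F D] in
theorem mem_cen {x : D ≃ₗ[F] D} {a : D →ₗ[F] D} : a ∈ cen x ↔ ∀ v, a (x v) = x (a v) := Iff.rfl

omit [Finite F] in
/-- Schur -/
theorem cen_injective {x : D ≃ₗ[F] D} (hx : Irr x ⊤) {a : D →ₗ[F] D} (ha : a ∈ cen x) (h0 : a ≠ 0) :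
    Function.Injective a := by
  rw [← LinearMap.ker_eq_bot]
  rcases hx.min (LinearMap.ker a) le_top (inv_ker (mem_cen.1 ha)) with h | h
  · exact h
  · exfalso
    apply h0
    exact LinearMap.ker_eq_top.1 h

omit [Finite F] in
/-- the evaluation at a nonzero vector is bijective on the centralizer -/
theorem eval_bijective {x : D ≃ₗ[F] D} (hx : Irr x ⊤) {v : D} (hv : v ≠ 0) :
    Function.Bijective (fun a : cen x => (a : D →ₗ[F] D) v) := by
  constructor
  · intro a b hab
    by_contra hne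
    have h1 : (a : D →ₗ[F] D) - b ∈ cen x := (cen x).sub_mem a.2 b.2
    have h2 : (a : D →ₗ[F] D) - b ≠ 0 := fun h => hne (Subtype.ext (sub_eq_zero.1 h))
    have h3 := cen_injective hx h1 h2
    apply hv
    apply h3
    have h4 : (a : D →ₗ[F] D) v = (b : D →ₗ[F] D) v := hab
    rw [map_zero, LinearMap.sub_apply, h4, sub_self]
  · -- the image is an invariant subspace
    let ev : cen x →ₗ[F] D := (LinearMap.applyₗ v).comp (cen x).subtype
    have hev : ∀ a : cen x, ev a = (a : D →ₗ[F] D) v := fun _ => rfl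
    have h1 : _root_.Cfsg.Agent.H847.Bs.Inv x (LinearMap.range ev) := by
      rintro _ ⟨a, rfl⟩
      have h2 : (x : D →ₗ[F] D).comp (a : D →ₗ[F] D) ∈ cen x := by
        intro w
        rw [LinearMap.comp_apply, LinearMap.comp_apply, mem_cen.1 a.2]
        rfl
      exact ⟨⟨_, h2⟩, rfl⟩
    rcases hx.min _ le_top h1 with h2 | h2
    · exfalso
      apply hv
      have h3 : ev ⟨LinearMap.id, fun w => rfl⟩ = v := rfl
      have h4 : v ∈ LinearMap.range ev := ⟨_, h3⟩
      rw [h2] at h4
      exact (Submodule.mem_bot F).1 h4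
    · intro w
      have h3 : w ∈ LinearMap.range ev := by rw [h2]; exact Submodule.mem_top
      exact h3

/-- the order of the centralizer -/
theorem card_centralizer {x : D ≃ₗ[F] D} (hx : Irr x ⊤) :
    Nat.card (Subgroup.centralizer ({x} : Set (D ≃ₗ[F] D))) = Nat.card F ^ finrank F D - 1 := by
  have hD : Nontrivial D := by
    by_contra h
    rw [not_nontrivial_iff_subsingleton] at h
    apply hx.ne_bot
    rw [Submodule.eq_bot_iff]
    intro v _
    exact Subsingleton.elim _ _
  have hfin : Finite D := Module.finite_of_finite F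
  obtain ⟨v, hv⟩ := exists_ne (0 : D)
  let e : Subgroup.centralizer ({x} : Set (D ≃ₗ[F] D)) → {w : D // w ≠ 0} := fun u =>
    ⟨(u : D ≃ₗ[F] D) v, fun h => hv ((u : D ≃ₗ[F] D).injective (by rw [h, map_zero]))⟩
  have hmem : ∀ u : Subgroup.centralizer ({x} : Set (D ≃ₗ[F] D)), ((u : D ≃ₗ[F] D) : D →ₗ[F] D) ∈ cen x := by
    intro u w
    have h1 := Subgroup.mem_centralizer_singleton_iff.1 u.2
    exact LinearEquiv.congr_fun h1 w
  have he : Function.Bijective e := by
    constructor
    · intro a b hab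
      have h1 : (a : D ≃ₗ[F] D) v = (b : D ≃ₗ[F] D) v := congrArg Subtype.val hab
      have h2 := (eval_bijective hx hv).1 (a₁ := ⟨_, hmem a⟩) (a₂ := ⟨_, hmem b⟩) h1
      apply Subtype.ext
      apply LinearEquiv.ext
      intro w
      exact LinearMap.congr_fun (congrArg Subtype.val h2) w
    · rintro ⟨w, hw⟩
      obtain ⟨a, ha⟩ := (eval_bijective hx hv).2 w
      have ha0 : (a : D →ₗ[F] D) ≠ 0 := by
        intro h
        apply hw
        rw [← ha]
        change (a : D →ₗ[F] D) v = 0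
        rw [h, LinearMap.zero_apply]
      have hinj := cen_injective hx a.2 ha0
      let u : D ≃ₗ[F] D := LinearEquiv.ofInjectiveEndo a hinj
      have hu : ∀ w, u w = (a : D →ₗ[F] D) w := fun w => rfl
      refine ⟨⟨u, ?_⟩, ?_⟩
      · rw [Subgroup.mem_centralizer_singleton_iff]
        apply LinearEquiv.ext
        intro w
        exact mem_cen.1 a.2 w
      · apply Subtype.ext
        exact ha
  rw [Nat.card_congr (Equiv.ofBijective e he)]
  have h1 : Nat.card D = Nat.card F ^ finrank F D := Module.natCard_eq_pow_finrank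
  classical
  have := Fintype.ofFinite D
  rw [← h1, Nat.card_eq_fintype_card, Nat.card_eq_fintype_card, Fintype.card_subtype_compl, Fintype.card_subtype_eq]

/-- **an element of prime order `r` commuting with an irreducible element** -/
theorem exists_prime_elt {x : D ≃ₗ[F] D} (hx : Irr x ⊤) {r : ℕ} (hr : r.Prime)
    (hrq : ∀ m, r ∣ Nat.card F ^ m - 1 ↔ finrank F D ∣ m) (hrF : ¬ r ∣ Nat.card F) (hd : 2 ≤ finrank F D) :
    ∃ u : D ≃ₗ[F] D, u * x = x * u ∧ u ^ r = 1 ∧ u ≠ 1 ∧ LinearMap.det (u : D →ₗ[F] D) = 1 ∧ Irr u ⊤ := by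
  have hfin : Finite D := Module.finite_of_finite F
  have hfin2 : Finite (D ≃ₗ[F] D) := Finite.of_injective (fun u : D ≃ₗ[F] D => (u : D → D)) DFunLike.coe_injective
  have : Fact r.Prime := ⟨hr⟩
  have h1 : r ∣ Nat.card (Subgroup.centralizer ({x} : Set (D ≃ₗ[F] D))) := by
    rw [card_centralizer hx, hrq]
  obtain ⟨u, hu⟩ := exists_prime_orderOf_dvd_card' r h1
  have hur : (u : D ≃ₗ[F] D) ^ r = 1 := by
    have h2 : u ^ r = 1 := by rw [← hu]; exact pow_orderOf_eq_one u
    have h3 := congrArg Subtype.val h2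
    exact h3
  have hu1 : (u : D ≃ₗ[F] D) ≠ 1 := by
    intro h
    have h2 : u = 1 := Subtype.ext h
    rw [h2, orderOf_one] at hu
    exact hr.one_lt.ne hu
  have hux : (u : D ≃ₗ[F] D) * x = x * u := Subgroup.mem_centralizer_singleton_iff.1 u.2
  have huc : ∀ v, (u : D ≃ₗ[F] D) (x v) = x ((u : D ≃ₗ[F] D) v) := fun v => LinearEquiv.congr_fun hux v
  -- the determinant
  have hdet : LinearMap.det ((u : D ≃ₗ[F] D) : D →ₗ[F] D) = 1 := by
    have h2 : LinearEquiv.det (u : D ≃ₗ[F] D) ^ r = 1 := by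
      rw [← map_pow, hur, map_one]
    have h3 : orderOf (LinearEquiv.det (u : D ≃ₗ[F] D)) ∣ r := orderOf_dvd_of_pow_eq_one h2
    have h4 : orderOf (LinearEquiv.det (u : D ≃ₗ[F] D)) ∣ Nat.card F - 1 := by
      have := Fintype.ofFinite F
      rw [← Nat.card_units F]
      exact orderOf_dvd_natCard _
    rcases (Nat.dvd_prime hr).1 h3 with h5 | h5
    · have h6 := orderOf_eq_one_iff.1 h5
      have h7 := congrArg Units.val h6
      simpa using h7
    · exfalso
      rw [h5] at h4
      have h6 := (hrq 1).1 (by rwa [pow_one])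
      have := Nat.le_of_dvd one_pos h6
      omega
  refine ⟨u, hux, hur, hu1, hdet, fun v _ => Submodule.mem_top, hx.ne_bot, ?_⟩
  -- irreducibility
  intro Y _ hY
  by_cases hY0 : Y = ⊥
  · left; exact hY0
  right
  -- `u` has no fixed vectors
  have hfix : ∀ v, (u : D ≃ₗ[F] D) v = v → v = 0 := by
    have h2 : ((u : D ≃ₗ[F] D) : D →ₗ[F] D) - LinearMap.id ∈ cen x := by
      intro v
      change (u : D ≃ₗ[F] D) (x v) - x v = x ((u : D ≃ₗ[F] D) v - v)
      rw [huc, map_sub]
    have h3 : ((u : D ≃ₗ[F] D) : D →ₗ[F] D) - LinearMap.id ≠ 0 := by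
      intro h
      apply hu1
      apply LinearEquiv.ext
      intro v
      exact LinearMap.congr_fun (sub_eq_zero.1 h) v
    intro v hv
    apply cen_injective hx h2 h3
    rw [map_zero]
    change (u : D ≃ₗ[F] D) v - v = 0
    rw [hv, sub_self]
  -- `r` divides `|Y| - 1`
  have hYfin : Finite Y := inferInstance
  have hmap : ∀ v : Y, (u : D ≃ₗ[F] D) v ∈ Y := fun v => hY v v.2
  let σ : Function.End Y := fun v => ⟨(u : D ≃ₗ[F] D) v, hmap v⟩
  have hσ : ∀ (n : ℕ) (v : Y), (((σ ^ n) v : Y) : D) = ((u : D ≃ₗ[F] D) ^ n) v := by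
    intro n
    induction n with
    | zero => intro v; rfl
    | succ n ih =>
      intro v
      rw [pow_succ, pow_succ]
      exact ih _
  have hσr : σ ^ r ^ 1 = 1 := by
    funext v
    apply Subtype.ext
    rw [pow_one, hσ, hur]
    rfl
  have h2 : Nat.card Y ≡ Nat.card (Function.fixedPoints σ) [MOD r] := by
    classical
    have := Fintype.ofFinite Y
    have h3 := Equiv.Perm.card_fixedPoints_modEq (f := σ) (p := r) (n := 1) hσr
    rw [Nat.card_eq_fintype_card, Nat.card_eq_fintype_card]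
    exact h3
  have h3 : Nat.card (Function.fixedPoints σ) = 1 := by
    rw [Nat.card_eq_one_iff_unique]
    refine ⟨⟨fun a b => ?_⟩, ⟨⟨0, ?_⟩⟩⟩
    · have h4 : ∀ a : Function.fixedPoints σ, a.1 = 0 := by
        intro a
        apply Subtype.ext
        apply hfix
        exact congrArg Subtype.val a.2
      apply Subtype.ext
      rw [h4, h4]
    · apply Subtype.ext
      exact map_zero _
  rw [h3] at h2
  have h4 : r ∣ Nat.card F ^ finrank F Y - 1 := by
    rw [← Module.natCard_eq_pow_finrank (K := F) (V := Y)]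
    have h5 : 1 ≤ Nat.card Y := Nat.card_pos
    exact (Nat.modEq_iff_dvd' h5).1 h2.symm
  rw [hrq] at h4
  have h5 : 0 < finrank F Y := by
    rw [Module.finrank_pos_iff]
    exact Submodule.nontrivial_iff_ne_bot.2 hY0
  have h6 : finrank F D ≤ finrank F Y := Nat.le_of_dvd h5 h4
  exact Submodule.eq_top_of_finrank_eq (le_antisymm (Submodule.finrank_le Y) h6)

end Cent

end Cfsg.Agent.H845.Bs
end

-- part: H845/Bs/Block
section
/-!
# S5733, BS34: blocks

* `block_contra` : an element of prime order `r` with `[V, y]` large and irreducible is in no imprimitive group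
  with blocks of dimension at least 2;
* `sp_contra` : an element with a large irreducible submodule of odd dimension is in no group of symplectic
  similarities.
-/

set_option autoImplicit false

namespace Cfsg.Agent.H845.Bs

open Cfsg.Agent.H847.Bs Module

variable {F V : Type*} [Field F] [Finite F] [AddCommGroup V] [Module F V] [FiniteDimensional F V]

theorem block_contra {H : Subgroup (V ≃ₗ[F] V)} {D : Submodule F V} (hB : BlkL H D) (hD : 2 ≤ finrank F D)
    {y : V ≃ₗ[F] V} (hy : y ∈ H) {r : ℕ} (hr : r.Prime) (hyr : y ^ r = 1) {X : Submodule F V} (hX : Irr y X)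
    (hXy : ∀ v, y v - v ∈ X) (hXy1 : y ≠ 1) (hn : finrank F V < 2 * finrank F X) (hrX : finrank F X < r) :
    False := by
  classical
  have hVfin : Finite V := Module.finite_of_finite F
  have hSfin : Finite (Submodule F V) := Finite.of_injective (fun Y : Submodule F V => (Y : Set V)) SetLike.coe_injective
  set B : Set (Submodule F V) := {Y : Submodule F V | ∃ h ∈ H, Y = D.map (h : V →ₗ[F] V)} with hBdef
  have hBfin : Finite B := inferInstance
  have := Fintype.ofFinite B
  have hdim : ∀ Y : B, finrank F (Y : Submodule F V) = finrank F D := by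
    rintro ⟨_, h, _, rfl⟩
    exact LinearEquiv.finrank_map_eq h D
  have hDB : D ∈ B := ⟨1, H.one_mem, (Submodule.map_id D).symm⟩
  -- the number of blocks
  have hind : iSupIndep (fun Y : B => (Y : Submodule F V)) := (sSupIndep_iff B).1 hB.indep
  have hsup : ⨆ Y : B, (Y : Submodule F V) = ⊤ := by rw [← sSup_eq_iSup']; exact hB.span
  have hint := DirectSum.isInternal_submodule_of_iSupIndep_of_iSup_eq_top hind hsup
  have hsum : finrank F V = ∑ Y : B, finrank F (Y : Submodule F V) := by
    rw [← LinearEquiv.finrank_eq (LinearEquiv.ofBijective (DirectSum.coeLinearMap _) hint), Module.finrank_directSum]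
  have hcard : finrank F V = Fintype.card B * finrank F D := by
    rw [hsum, Finset.sum_congr rfl (fun Y _ => hdim Y), Finset.sum_const, Finset.card_univ, smul_eq_mul]
  have h2 : 2 ≤ Fintype.card B := by
    by_contra hlt
    have h3 : Fintype.card B = 0 ∨ Fintype.card B = 1 := by omega
    rcases h3 with h3 | h3
    · have := Fintype.card_eq_zero_iff.1 h3
      exact this.elim ⟨D, hDB⟩
    · apply hB.ne_top
      apply Submodule.eq_top_of_finrank_eq
      rw [hcard, h3, one_mul]
  have hBr : Fintype.card B < r := by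
    have h3 : Fintype.card B * 2 ≤ finrank F V := by
      rw [hcard]; exact Nat.mul_le_mul_left _ hD
    omega
  have hDn : 2 * finrank F D ≤ finrank F V := by
    rw [hcard]; exact Nat.mul_le_mul_right _ h2
  -- `y` fixes all blocks
  have hmap : ∀ Y ∈ B, Y.map (y : V →ₗ[F] V) ∈ B := by
    rintro _ ⟨h, hh, rfl⟩
    refine ⟨y * h, H.mul_mem hy hh, ?_⟩
    rw [← Submodule.map_comp]
    rfl
  let f : Function.End B := fun Y => ⟨_, hmap Y Y.2⟩
  have hf : ∀ (m : ℕ) (Y : B), (((f ^ m) Y : B) : Submodule F V) =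
      (Y : Submodule F V).map ((y ^ m : V ≃ₗ[F] V) : V →ₗ[F] V) := by
    intro m
    induction m with
    | zero =>
      intro Y
      exact (Submodule.map_id _).symm
    | succ m ih =>
      intro Y
      rw [pow_succ]
      refine (ih (f Y)).trans ?_
      change ((Y : Submodule F V).map (y : V →ₗ[F] V)).map _ = _
      rw [← Submodule.map_comp, pow_succ]
      rfl
  have hfr : f ^ r ^ 1 = 1 := by
    funext Y
    apply Subtype.ext
    rw [pow_one, hf, hyr]
    exact Submodule.map_id _
  have : Fact r.Prime := ⟨hr⟩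
  have h3 := Equiv.Perm.card_fixedPoints_modEq (f := f) (p := r) (n := 1) hfr
  have h4 : Fintype.card (Function.fixedPoints f) ≤ Fintype.card B := Fintype.card_subtype_le _
  have h5 : Fintype.card B = Fintype.card (Function.fixedPoints f) :=
    Nat.ModEq.eq_of_lt_of_lt h3 hBr (lt_of_le_of_lt h4 hBr)
  have h6 : ∀ Y : B, f Y = Y := by
    have h7 : Function.Surjective (Subtype.val : Function.fixedPoints f → B) :=
      ((Fintype.bijective_iff_injective_and_card _).2 ⟨Subtype.val_injective, h5.symm⟩).2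
    intro Y
    obtain ⟨Z, rfl⟩ := h7 Y
    exact Z.2
  have hinv : ∀ Y ∈ B, _root_.Cfsg.Agent.H847.Bs.Inv y Y := by
    intro Y hY v hv
    have h7 : Y.map (y : V →ₗ[F] V) = Y := congrArg Subtype.val (h6 ⟨Y, hY⟩)
    rw [← h7]
    exact ⟨v, hv, rfl⟩
  -- some block is not fixed pointwise
  obtain ⟨Y, hY, v, hv, hyv⟩ : ∃ Y ∈ B, ∃ v ∈ Y, y v ≠ v := by
    by_contra hcon
    push Not at hcon
    apply hXy1
    have h7 : (⊤ : Submodule F V) ≤ LinearMap.ker ((y : V →ₗ[F] V) - LinearMap.id) := by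
      rw [← hB.span]
      apply sSup_le
      intro Y hY v hv
      rw [LinearMap.mem_ker]
      change y v - v = 0
      rw [hcon Y hY v hv, sub_self]
    apply LinearEquiv.ext
    intro v
    have h8 := h7 (Submodule.mem_top (x := v))
    rw [LinearMap.mem_ker] at h8
    exact sub_eq_zero.1 h8
  have h7 : X ⊓ Y = X := by
    rcases hX.min (X ⊓ Y) inf_le_left (fun w hw => ⟨hX.inv w hw.1, hinv Y hY w hw.2⟩) with h8 | h8
    · exfalso
      have h9 : y v - v ∈ X ⊓ Y := ⟨hXy v, Y.sub_mem (hinv Y hY v hv) hv⟩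
      rw [h8] at h9
      exact hyv (sub_eq_zero.1 ((Submodule.mem_bot F).1 h9))
    · exact h8
  have h8 : finrank F X ≤ finrank F Y := by
    rw [← h7]
    exact Submodule.finrank_mono inf_le_right
  rw [hdim ⟨Y, hY⟩] at h8
  omega

/-- the bilinear form of a symplectic `Frm` -/
noncomputable def bil {Φ : Frm F V} (hΦ : IsSp Φ) : LinearMap.BilinForm F V :=
  LinearMap.mk₂ F Φ.B Φ.add_left (fun a x y => Φ.smul_left a x y) Φ.add_right
    (fun a x y => by rw [Φ.smul_right, hΦ.s, smul_eq_mul])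

theorem sp_contra {Φ : Frm F V} (hΦ : IsSp Φ) {h : V ≃ₗ[F] V} {a : F} (ha : ∀ x y, Φ.B (h x) (h y) = a * Φ.B x y)
    {X : Submodule F V} (hX : Irr h X) (hn : finrank F V < 2 * finrank F X) (hodd : Odd (finrank F X)) : False := by
  have hB : (bil hΦ).IsAlt := fun x => hΦ.alt x
  have hrefl : (bil hΦ).IsRefl := fun x y hxy => Φ.refl x y hxy
  have hnd : (bil hΦ).Nondegenerate := by
    apply LinearMap.BilinForm.nondegenerate_iff_ker_eq_bot.2
    rw [Submodule.eq_bot_iff]
    intro x hx
    exact hΦ.nd x fun y => LinearMap.congr_fun (LinearMap.mem_ker.1 hx) y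
  -- the radical of `X`
  have hR : _root_.Cfsg.Agent.H847.Bs.Inv h (X ⊓ (bil hΦ).orthogonal X) := by
    rintro v ⟨hv, hv2⟩
    refine ⟨hX.inv v hv, ?_⟩
    intro w hw
    rw [← Inv.map_eq hX.inv] at hw
    obtain ⟨w', hw', rfl⟩ := hw
    have h1 : Φ.B w' v = 0 := hv2 w' hw'
    change Φ.B (h w') (h v) = 0
    rw [ha, h1, mul_zero]
  rcases hX.min _ inf_le_left hR with h1 | h1
  · -- `X` is nondegenerate
    have h2 := LinearMap.BilinForm.nondegenerate_restrict_of_disjoint_orthogonal (bil hΦ) hrefl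
      (disjoint_iff.2 h1)
    obtain ⟨k, e, -⟩ := Cfsg.Agent.BpCl.exists_coords (B := (bil hΦ).restrict X) (fun x => hΦ.alt x)
      (fun u hu => by
        have h3 := LinearMap.BilinForm.nondegenerate_iff_ker_eq_bot.1 h2
        have h4 : u ∈ LinearMap.ker ((bil hΦ).restrict X) := by
          rw [LinearMap.mem_ker]
          exact LinearMap.ext hu
        rw [h3] at h4
        exact (Submodule.mem_bot F).1 h4)
    have h3 := e.finrank_eq
    rw [Module.finrank_fintype_fun_eq_card, Fintype.card_sum, Fintype.card_fin] at h3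
    rw [← h3, Nat.odd_iff] at hodd
    omega
  · have h2 : X ≤ (bil hΦ).orthogonal X := by
      rw [← h1]
      exact inf_le_right.trans (by rw [h1])
    have h3 := Submodule.finrank_mono (R := F) h2
    rw [LinearMap.BilinForm.finrank_orthogonal hnd] at h3
    have h4 := Submodule.finrank_le X
    omega

end Cfsg.Agent.H845.Bs
end

-- part: H845/Bs/Count
section
/-!
# S5733, BS34: counting

`D`, `W` complementary, `dim D > dim W`: the elements of `SL(V)` which are conjugate to an element leaving `D` and `W`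
invariant and irreducible on `D` have at least the proportion of the irreducible elements of `GL(D)`.
-/

set_option autoImplicit false

namespace Cfsg.Agent.H845.Bs

open Cfsg.Agent.H847.Bs Module

section

variable {F V : Type*} [Field F] [AddCommGroup V] [Module F V] [FiniteDimensional F V]

/-- the restriction to an invariant subspace -/
noncomputable def res (g : V ≃ₗ[F] V) {D : Submodule F V} (h : _root_.Cfsg.Agent.H847.Bs.Inv g D) : D ≃ₗ[F] D :=
  { toFun := fun v => ⟨g v, h v v.2⟩
    map_add' := fun v w => Subtype.ext (map_add g _ _)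
    map_smul' := fun a v => Subtype.ext (map_smul g _ _)
    invFun := fun v => ⟨g.symm v, Inv.symm_mem h v.2⟩
    left_inv := fun v => Subtype.ext (g.symm_apply_apply _)
    right_inv := fun v => Subtype.ext (g.apply_symm_apply _) }

theorem coe_res (g : V ≃ₗ[F] V) {D : Submodule F V} (h : _root_.Cfsg.Agent.H847.Bs.Inv g D) (v : D) : ((res g h v : D) : V) = g v := rfl

theorem irr_res {g : V ≃ₗ[F] V} {D : Submodule F V} (h : _root_.Cfsg.Agent.H847.Bs.Inv g D) : Irr (res g h) ⊤ ↔ Irr g D := by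
  constructor
  · intro hi
    refine ⟨h, ?_, ?_⟩
    · intro hD
      apply hi.ne_bot
      rw [Submodule.eq_bot_iff]
      rintro ⟨v, hv⟩ _
      rw [hD] at hv
      exact Subtype.ext ((Submodule.mem_bot F).1 hv)
    · intro Y hY hYi
      rcases hi.min (Y.comap D.subtype) le_top (fun v hv => hYi v hv) with h1 | h1
      · left
        rw [Submodule.eq_bot_iff]
        intro v hv
        have h2 : (⟨v, hY hv⟩ : D) ∈ Y.comap D.subtype := hv
        rw [h1] at h2
        exact congrArg Subtype.val ((Submodule.mem_bot F).1 h2)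
      · right
        apply le_antisymm hY
        intro v hv
        have h2 : (⟨v, hv⟩ : D) ∈ Y.comap D.subtype := by rw [h1]; exact Submodule.mem_top
        exact h2
  · intro hi
    refine ⟨fun v _ => Submodule.mem_top, ?_, ?_⟩
    · intro ht
      apply hi.ne_bot
      rw [Submodule.eq_bot_iff]
      intro v hv
      have h2 : (⟨v, hv⟩ : D) ∈ (⊤ : Submodule F D) := Submodule.mem_top
      rw [ht] at h2
      exact congrArg Subtype.val ((Submodule.mem_bot F).1 h2)
    · intro Y _ hYi
      have hle : Y.map D.subtype ≤ D := by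
        rintro _ ⟨v, _, rfl⟩
        exact v.2
      have hinv : _root_.Cfsg.Agent.H847.Bs.Inv g (Y.map D.subtype) := by
        rintro _ ⟨v, hv, rfl⟩
        exact ⟨res g h v, hYi v hv, rfl⟩
      rcases hi.min _ hle hinv with h1 | h1
      · left
        rw [Submodule.eq_bot_iff]
        intro v hv
        have h2 : (v : V) ∈ Y.map D.subtype := ⟨v, hv, rfl⟩
        rw [h1] at h2
        exact Subtype.ext ((Submodule.mem_bot F).1 h2)
      · right
        rw [eq_top_iff]
        intro v _
        have h2 : (v : V) ∈ Y.map D.subtype := by rw [h1]; exact v.2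
        obtain ⟨w, hw, hwv⟩ := h2
        have h3 : w = v := Subtype.ext hwv
        rwa [← h3]

/-- the stabiliser of `D` and `W` in `SL(V)` -/
def stb (D W : Submodule F V) : Subgroup (V ≃ₗ[F] V) where
  carrier := {g | g ∈ slV F V ∧ _root_.Cfsg.Agent.H847.Bs.Inv g D ∧ _root_.Cfsg.Agent.H847.Bs.Inv g W}
  mul_mem' := by
    rintro a b ⟨ha, ha1, ha2⟩ ⟨hb, hb1, hb2⟩
    exact ⟨(slV F V).mul_mem ha hb, fun v hv => ha1 _ (hb1 v hv), fun v hv => ha2 _ (hb2 v hv)⟩
  one_mem' := ⟨(slV F V).one_mem, fun v hv => hv, fun v hv => hv⟩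
  inv_mem' := by
    rintro a ⟨ha, ha1, ha2⟩
    exact ⟨(slV F V).inv_mem ha, fun v hv => Inv.symm_mem ha1 hv, fun v hv => Inv.symm_mem ha2 hv⟩

/-- the restriction to `D` -/
noncomputable def rho (D W : Submodule F V) : stb D W →* (D ≃ₗ[F] D) where
  toFun g := res g.1 g.2.2.1
  map_one' := LinearEquiv.ext fun v => Subtype.ext rfl
  map_mul' a b := LinearEquiv.ext fun v => Subtype.ext rfl

/-- linear automorphisms of given determinant -/
theorem exists_det {W : Type*} [AddCommGroup W] [Module F W] [FiniteDimensional F W] (h : 0 < finrank F W) {c : F}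
    (hc : c ≠ 0) : ∃ e : W ≃ₗ[F] W, LinearMap.det (e : W →ₗ[F] W) = c := by
  let b := finBasis F W
  let M : End F W := Matrix.toLin b b (Matrix.diagonal (Function.update 1 ⟨0, h⟩ c))
  have hM : LinearMap.det M = c := by
    rw [LinearMap.det_toLin, Matrix.det_diagonal, Finset.prod_update_of_mem (Finset.mem_univ _)]
    simp only [_root_.Pi.one_apply, _root_.Finset.prod_const_one, _root_.mul_one]
  exact ⟨LinearMap.equivOfDetNeZero M (by rwa [hM]), hM⟩

theorem glue_left {D W : Submodule F V} (h : IsCompl D W) (x : D ≃ₗ[F] D) (y : W ≃ₗ[F] W) (v : D) :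
    glue h x y v = x v := by
  unfold glue
  rw [LinearEquiv.trans_apply, LinearEquiv.trans_apply]
  have h1 : (Submodule.prodEquivOfIsCompl D W h).symm (v : V) = (v, 0) := by
    rw [LinearEquiv.symm_apply_eq]
    simp
  rw [h1]
  simp

theorem glue_right {D W : Submodule F V} (h : IsCompl D W) (x : D ≃ₗ[F] D) (y : W ≃ₗ[F] W) (w : W) :
    glue h x y w = y w := by
  unfold glue
  rw [LinearEquiv.trans_apply, LinearEquiv.trans_apply]
  have h1 : (Submodule.prodEquivOfIsCompl D W h).symm (w : V) = (0, w) := by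
    rw [LinearEquiv.symm_apply_eq]
    simp
  rw [h1]
  simp

theorem det_glue {D W : Submodule F V} (h : IsCompl D W) (x : D ≃ₗ[F] D) (y : W ≃ₗ[F] W) :
    LinearMap.det (glue h x y : V →ₗ[F] V) = LinearMap.det (x : D →ₗ[F] D) * LinearMap.det (y : W →ₗ[F] W) := by
  have h1 : (glue h x y : V →ₗ[F] V) = (Submodule.prodEquivOfIsCompl D W h : (D × W) →ₗ[F] V) ∘ₗ
      ((x : D →ₗ[F] D).prodMap (y : W →ₗ[F] W)) ∘ₗ
      ((Submodule.prodEquivOfIsCompl D W h).symm : V →ₗ[F] D × W) := rfl
  rw [h1, LinearMap.det_conj, LinearMap.det_prodMap]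

theorem rho_surjective {D W : Submodule F V} (h : IsCompl D W) (hW : 0 < finrank F W) :
    Function.Surjective (rho D W) := by
  intro x
  have hx : LinearMap.det (x : D →ₗ[F] D) ≠ 0 := (LinearEquiv.isUnit_det' x).ne_zero
  obtain ⟨y, hy⟩ := exists_det (F := F) hW (inv_ne_zero hx)
  refine ⟨⟨glue h x y, ?_, fun v hv => ?_, fun w hw => ?_⟩, ?_⟩
  · change LinearMap.det _ = 1
    rw [det_glue, hy, mul_inv_cancel₀ hx]
  · rw [glue_left h x y ⟨v, hv⟩]
    exact (x _).2
  · rw [glue_right h x y ⟨w, hw⟩]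
    exact (y _).2
  · apply LinearEquiv.ext
    intro v
    apply Subtype.ext
    exact glue_left h x y v

end

/-- preimages under a surjective homomorphism -/
theorem card_preimage {M Q : Type*} [Group M] [Group Q] [Finite M] (f : M →* Q) (hf : Function.Surjective f)
    (S : Set Q) : Nat.card {m : M // f m ∈ S} = Nat.card f.ker * Nat.card S := by
  rw [← Nat.card_prod]
  choose s hs using hf
  refine Nat.card_congr
    { toFun := fun m => (⟨(s (f m.1))⁻¹ * m.1, ?_⟩, ⟨f m.1, m.2⟩)
      invFun := fun p => ⟨s p.2.1 * p.1.1, ?_⟩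
      left_inv := fun m => Subtype.ext (mul_inv_cancel_left _ _)
      right_inv := fun p => ?_ }
  · rw [MonoidHom.mem_ker, map_mul, map_inv, hs, inv_mul_cancel]
  · rw [map_mul, hs, MonoidHom.mem_ker.1 p.1.2, mul_one]
    exact p.2.2
  · have h1 : f (s p.2.1 * p.1.1) = p.2.1 := by
      rw [map_mul, hs, MonoidHom.mem_ker.1 p.1.2, mul_one]
    apply Prod.ext
    · apply Subtype.ext
      change (s (f (s p.2.1 * p.1.1)))⁻¹ * (s p.2.1 * p.1.1) = p.1.1
      rw [h1, inv_mul_cancel_left]
    · exact Subtype.ext h1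

section

variable {F V : Type*} [Field F] [AddCommGroup V] [Module F V] [FiniteDimensional F V]

/-- the elements of `SL(V)` leaving `D` and `W` invariant, irreducible on `D` -/
def EE (D W : Submodule F V) : Set (V ≃ₗ[F] V) := {g | g ∈ slV F V ∧ Irr g D ∧ _root_.Cfsg.Agent.H847.Bs.Inv g W}

/-- the elements of `SL(V)` with an irreducible submodule of dimension `d` with an invariant complement -/
def UU (F V : Type*) [Field F] [AddCommGroup V] [Module F V] (d : ℕ) : Set (V ≃ₗ[F] V) :=
  {g | g ∈ slV F V ∧ ∃ D W : Submodule F V, IsCompl D W ∧ finrank F D = d ∧ Irr g D ∧ _root_.Cfsg.Agent.H847.Bs.Inv g W}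

omit [FiniteDimensional F V] in
/-- images of invariant subspaces -/
theorem Inv.conj {x g : V ≃ₗ[F] V} {Y : Submodule F V} (h : _root_.Cfsg.Agent.H847.Bs.Inv x Y) :
    _root_.Cfsg.Agent.H847.Bs.Inv (g * x * g⁻¹) (Y.map (g : V →ₗ[F] V)) := by
  rintro _ ⟨v, hv, rfl⟩
  refine ⟨x v, h v hv, ?_⟩
  change g (x v) = g (x (g.symm (g v)))
  rw [g.symm_apply_apply]

omit [FiniteDimensional F V] in
theorem Irr.conj {x g : V ≃ₗ[F] V} {Y : Submodule F V} (h : Irr x Y) :
    Irr (g * x * g⁻¹) (Y.map (g : V →ₗ[F] V)) := by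
  have hsub : ∀ Z : Submodule F V, (Z.map (g⁻¹ : V ≃ₗ[F] V).toLinearMap).map (g : V →ₗ[F] V) = Z := by
    intro Z
    rw [← Submodule.map_comp]
    have : (g : V →ₗ[F] V) ∘ₗ ((g⁻¹ : V ≃ₗ[F] V) : V →ₗ[F] V) = LinearMap.id :=
      LinearMap.ext fun v => g.apply_symm_apply v
    rw [this, Submodule.map_id]
  refine ⟨Inv.conj h.inv, ?_, ?_⟩
  · intro h0
    apply h.ne_bot
    rw [Submodule.eq_bot_iff]
    intro v hv
    have h1 : g v ∈ Y.map (g : V →ₗ[F] V) := ⟨v, hv, rfl⟩
    rw [h0, Submodule.mem_bot] at h1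
    exact g.injective (by rw [h1, map_zero])
  · intro Z hZ hZi
    have h1 : Z.map (g⁻¹ : V ≃ₗ[F] V).toLinearMap ≤ Y := by
      rintro _ ⟨v, hv, rfl⟩
      obtain ⟨w, hw, rfl⟩ := hZ hv
      change g.symm (g w) ∈ Y
      rw [g.symm_apply_apply]
      exact hw
    have h2 : _root_.Cfsg.Agent.H847.Bs.Inv x (Z.map (g⁻¹ : V ≃ₗ[F] V).toLinearMap) := by
      rintro _ ⟨v, hv, rfl⟩
      refine ⟨g (x (g.symm v)), hZi v hv, ?_⟩
      change g.symm (g (x (g.symm v))) = x (g.symm v)
      rw [g.symm_apply_apply]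
    rcases h.min _ h1 h2 with h3 | h3
    · left
      rw [← hsub Z, h3, Submodule.map_bot]
    · right
      rw [← hsub Z, h3]

/-- large irreducible submodules are unique -/
theorem irr_unique {z : V ≃ₗ[F] V} {D D' : Submodule F V} (hD : Irr z D) (hD' : Irr z D')
    (h : finrank F V < finrank F D + finrank F D') : D = D' := by
  have h1 : D ⊓ D' ≠ ⊥ := by
    intro h0
    have h2 := Submodule.finrank_sup_add_finrank_inf_eq D D'
    rw [h0, finrank_bot, add_zero] at h2
    have h3 := Submodule.finrank_le (D ⊔ D')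
    omega
  have hi : _root_.Cfsg.Agent.H847.Bs.Inv z (D ⊓ D') := fun v hv => ⟨hD.inv v hv.1, hD'.inv v hv.2⟩
  rcases hD.min _ inf_le_left hi with h2 | h2
  · exact absurd h2 h1
  · rcases hD'.min _ inf_le_right hi with h3 | h3
    · exact absurd h3 h1
    · rw [← h2, h3]

/-- the invariant complement is unique -/
theorem compl_unique {z : V ≃ₗ[F] V} {D W W' : Submodule F V} (hD : Irr z D) (hW : _root_.Cfsg.Agent.H847.Bs.Inv z W) (hW' : _root_.Cfsg.Agent.H847.Bs.Inv z W')
    (h : IsCompl D W) (h' : IsCompl D W') (hd : finrank F V < 2 * finrank F D) : W' = W := by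
  have e1 := Submodule.finrank_add_eq_of_isCompl h
  have e2 := Submodule.finrank_add_eq_of_isCompl h'
  have hi : _root_.Cfsg.Agent.H847.Bs.Inv z (D ⊓ (W ⊔ W')) := by
    rintro v ⟨hv, hv'⟩
    refine ⟨hD.inv v hv, ?_⟩
    obtain ⟨a, ha, b, hb, rfl⟩ := Submodule.mem_sup.1 hv'
    rw [map_add]
    exact Submodule.add_mem_sup (hW a ha) (hW' b hb)
  have e3 := Submodule.finrank_sup_add_finrank_inf_eq W W'
  rcases hD.min _ inf_le_left hi with h1 | h1
  · have e4 := Submodule.finrank_sup_add_finrank_inf_eq D (W ⊔ W')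
    rw [h1, finrank_bot, add_zero] at e4
    have e5 := Submodule.finrank_le (D ⊔ (W ⊔ W'))
    have e6 : W = W ⊔ W' := Submodule.eq_of_le_of_finrank_le le_sup_left (by omega)
    have e7 : W' ≤ W := by
      rw [e6]; exact le_sup_right
    exact Submodule.eq_of_le_of_finrank_eq e7 (by omega)
  · exfalso
    have h2 : D ≤ W ⊔ W' := by rw [← h1]; exact inf_le_right
    have h3 : W ⊔ W' = ⊤ := by
      rw [eq_top_iff, ← h.sup_eq_top]
      exact sup_le h2 le_sup_left
    rw [h3, finrank_top] at e3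
    omega

end

section

variable {F V : Type*} [Field F] [Finite F] [AddCommGroup V] [Module F V] [FiniteDimensional F V]

/-- the elements with a large irreducible submodule of dimension `d` -/
theorem card_UU {D W : Submodule F V} (h : IsCompl D W) (hd : finrank F V < 2 * finrank F D) (hW : 0 < finrank F W)
    {c : ℝ} (hc : c * (Nat.card (D ≃ₗ[F] D) : ℝ) ≤ Nat.card {x : D ≃ₗ[F] D // Irr x ⊤}) :
    c * (Nat.card (slV F V) : ℝ) ≤ Nat.card (UU F V (finrank F D)) := by
  have hVfin : Finite V := Module.finite_of_finite F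
  have hGfin : Finite (V ≃ₗ[F] V) := Finite.of_injective (fun u : V ≃ₗ[F] V => (u : V → V)) DFunLike.coe_injective
  -- the TI property
  have hTI : ∀ g ∈ slV F V, ∀ x ∈ EE D W, g * x * g⁻¹ ∈ EE D W → g ∈ stb D W := by
    rintro g hg x ⟨-, hx1, hx2⟩ ⟨-, hy1, hy2⟩
    have h1 : Irr (g * x * g⁻¹) (D.map (g : V →ₗ[F] V)) := Irr.conj hx1
    have h2 : _root_.Cfsg.Agent.H847.Bs.Inv (g * x * g⁻¹) (W.map (g : V →ₗ[F] V)) := Inv.conj hx2
    have h3 : D.map (g : V →ₗ[F] V) = D := by
      apply irr_unique h1 hy1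
      rw [LinearEquiv.finrank_map_eq g D]
      omega
    have h4 : IsCompl D (W.map (g : V →ₗ[F] V)) := by
      have h5 : IsCompl (D.map (g : V →ₗ[F] V)) (W.map (g : V →ₗ[F] V)) := by
        have h6 := (Submodule.orderIsoMapComap g).isCompl_iff.1 h
        exact h6
      rwa [h3] at h5
    have h5 : W.map (g : V →ₗ[F] V) = W := compl_unique hy1 hy2 h2 h h4 hd
    refine ⟨hg, fun v hv => ?_, fun v hv => ?_⟩
    · rw [← h3]; exact ⟨v, hv, rfl⟩
    · rw [← h5]; exact ⟨v, hv, rfl⟩
  have h1 := H358.Bs.card_union_in (G := slV F V) (M := stb D W) (E := EE D W) (fun g hg => hg.1) (fun g hg => hg.1) hTI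
  -- the order of `EE`
  have h2 : Nat.card (EE D W) = Nat.card {m : stb D W // rho D W m ∈ {x : D ≃ₗ[F] D | Irr x ⊤}} :=
    Nat.card_congr
      { toFun := fun g => ⟨⟨g.1, g.2.1, g.2.2.1.inv, g.2.2.2⟩, (irr_res g.2.2.1.inv).2 g.2.2.1⟩
        invFun := fun m => ⟨m.1.1, m.1.2.1, (irr_res m.1.2.2.1).1 m.2, m.1.2.2.2⟩
        left_inv := fun _ => rfl
        right_inv := fun _ => rfl }
  have h3 := card_preimage (rho D W) (rho_surjective h hW) {x : D ≃ₗ[F] D | Irr x ⊤}
  have h4 := card_preimage (rho D W) (rho_surjective h hW) Set.univ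
  have h5 : Nat.card {m : stb D W // rho D W m ∈ (Set.univ : Set (D ≃ₗ[F] D))} = Nat.card (stb D W) :=
    Nat.card_congr (Equiv.subtypeUnivEquiv fun _ => Set.mem_univ _)
  rw [h5, Nat.card_congr (Equiv.Set.univ _)] at h4
  rw [h3] at h2
  -- the union
  have h6 : Nat.card {y : V ≃ₗ[F] V // ∃ g ∈ slV F V, ∃ x ∈ EE D W, y = g * x * g⁻¹} ≤
      Nat.card (UU F V (finrank F D)) := by
    refine Nat.card_le_card_of_injective (fun y => (⟨y.1, ?_⟩ : UU F V (finrank F D)))
      (fun a b hab => Subtype.ext (congrArg (fun z : UU F V (finrank F D) => (z : V ≃ₗ[F] V)) hab))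
    obtain ⟨g, hg, x, ⟨hx, hx1, hx2⟩, hy⟩ := y.2
    rw [hy]
    refine ⟨(slV F V).mul_mem ((slV F V).mul_mem hg hx) ((slV F V).inv_mem hg), D.map (g : V →ₗ[F] V),
      W.map (g : V →ₗ[F] V), ?_, LinearEquiv.finrank_map_eq g D, Irr.conj hx1, Inv.conj hx2⟩
    exact (Submodule.orderIsoMapComap g).isCompl_iff.1 h
  have hk : 0 < Nat.card (rho D W).ker := Nat.card_pos
  have hQ : 0 < Nat.card (D ≃ₗ[F] D) := by
    have : Finite (D ≃ₗ[F] D) := Finite.of_surjective _ (rho_surjective h hW)
    exact Nat.card_pos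
  rw [h2, h4] at h1
  have h7 : (Nat.card (slV F V) : ℝ) * (Nat.card (rho D W).ker * Nat.card {x : D ≃ₗ[F] D // Irr x ⊤}) ≤
      Nat.card (UU F V (finrank F D)) * (Nat.card (rho D W).ker * Nat.card (D ≃ₗ[F] D)) := by
    have h8 := h1.trans (Nat.mul_le_mul_right _ h6)
    exact_mod_cast h8
  have hk' : (0 : ℝ) < Nat.card (rho D W).ker := by exact_mod_cast hk
  have hQ' : (0 : ℝ) < Nat.card (D ≃ₗ[F] D) := by exact_mod_cast hQ
  have h8 : (Nat.card (slV F V) : ℝ) * Nat.card {x : D ≃ₗ[F] D // Irr x ⊤} ≤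
      Nat.card (UU F V (finrank F D)) * Nat.card (D ≃ₗ[F] D) := by
    have h9 : (Nat.card (rho D W).ker : ℝ) * ((Nat.card (slV F V) : ℝ) * Nat.card {x : D ≃ₗ[F] D // Irr x ⊤}) ≤
        (Nat.card (rho D W).ker : ℝ) * (Nat.card (UU F V (finrank F D)) * Nat.card (D ≃ₗ[F] D)) := by
      linarith only [h7]
    exact le_of_mul_le_mul_left h9 hk'
  have h9 : (Nat.card (slV F V) : ℝ) * (c * Nat.card (D ≃ₗ[F] D)) ≤
      Nat.card (UU F V (finrank F D)) * Nat.card (D ≃ₗ[F] D) :=
    (mul_le_mul_of_nonneg_left hc (Nat.cast_nonneg _)).trans h8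
  have h10 : (c * (Nat.card (slV F V) : ℝ)) * Nat.card (D ≃ₗ[F] D) ≤
      Nat.card (UU F V (finrank F D)) * Nat.card (D ≃ₗ[F] D) := by linarith only [h9]
  exact le_of_mul_le_mul_right h10 hQ'

end

end Cfsg.Agent.H845.Bs
end

private theorem dce_59468d3af4a2 : _root_.True := by
  try have : _root_.True := by simp only [_root_.Cfsg.Agent.H845.Bs.stb.congr_simp]
  exact _root_.True.intro
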